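import Cfsg.Agent.H10.HeT.HT.RTab

set_option autoImplicit false
set_option linter.all false

namespace Cfsg.Agent.H10.HeT

open Cfsg.Agent.H35 Cfsg.Spor

theorem ht_rchk_22 : allR ht_rf 49980 10 (22 * 2 ^ 10) = true := by decide +kernel
theorem ht_rchk_23 : allR ht_rf 49980 10 (23 * 2 ^ 10) = true := by decide +kernel

end Cfsg.Agent.H10.HeT
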