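import Cfsg.Agent.H10.HeT.HT.RChk0
import Cfsg.Agent.H10.HeT.HT.RChk1
import Cfsg.Agent.H10.HeT.HT.RChk2
import Cfsg.Agent.H10.HeT.HT.RChk3
import Cfsg.Agent.H10.HeT.HT.RChk4
import Cfsg.Agent.H10.HeT.HT.RChk5
import Cfsg.Agent.H10.HeT.HT.RChk6
import Cfsg.Agent.H10.HeT.HT.RChk7
import Cfsg.Agent.H10.HeT.HT.RChk8
import Cfsg.Agent.H10.HeT.HT.RChk9
import Cfsg.Agent.H10.HeT.HT.RChk10
import Cfsg.Agent.H10.HeT.HT.RChk11
import Cfsg.Agent.H10.HeT.HT.RChk12
import Cfsg.Agent.H10.HeT.HT.RChk13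
import Cfsg.Agent.H10.HeT.HT.RChk14
import Cfsg.Agent.H10.HeT.HT.RChk15
import Cfsg.Agent.H10.HeT.HT.RChk16
import Cfsg.Agent.H10.HeT.HT.RChk17
import Cfsg.Agent.H10.HeT.HT.RChk18
import Cfsg.Agent.H10.HeT.HT.RChk19
import Cfsg.Agent.H10.HeT.HT.RChk20
import Cfsg.Agent.H10.HeT.HT.RChk21
import Cfsg.Agent.H10.HeT.HT.RChk22
import Cfsg.Agent.H10.HeT.HT.RChk23
import Cfsg.Agent.H10.HeT.HT.RChk24

set_option autoImplicit false
set_option linter.all false

namespace Cfsg.Agent.H10.HeT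

open Cfsg.Agent.H35 Cfsg.Spor

theorem ht_rall : ∀ p, p < 49980 → ht_rf p = true := by
  apply allR_blocks ht_rf 49980 10 49 _ (by decide)
  intro k hk
  interval_cases k
  · exact ht_rchk_0
  · exact ht_rchk_1
  · exact ht_rchk_2
  · exact ht_rchk_3
  · exact ht_rchk_4
  · exact ht_rchk_5
  · exact ht_rchk_6
  · exact ht_rchk_7
  · exact ht_rchk_8
  · exact ht_rchk_9
  · exact ht_rchk_10
  · exact ht_rchk_11
  · exact ht_rchk_12
  · exact ht_rchk_13
  · exact ht_rchk_14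
  · exact ht_rchk_15
  · exact ht_rchk_16
  · exact ht_rchk_17
  · exact ht_rchk_18
  · exact ht_rchk_19
  · exact ht_rchk_20
  · exact ht_rchk_21
  · exact ht_rchk_22
  · exact ht_rchk_23
  · exact ht_rchk_24
  · exact ht_rchk_25
  · exact ht_rchk_26
  · exact ht_rchk_27
  · exact ht_rchk_28
  · exact ht_rchk_29
  · exact ht_rchk_30
  · exact ht_rchk_31
  · exact ht_rchk_32
  · exact ht_rchk_33
  · exact ht_rchk_34
  · exact ht_rchk_35
  · exact ht_rchk_36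
  · exact ht_rchk_37
  · exact ht_rchk_38
  · exact ht_rchk_39
  · exact ht_rchk_40
  · exact ht_rchk_41
  · exact ht_rchk_42
  · exact ht_rchk_43
  · exact ht_rchk_44
  · exact ht_rchk_45
  · exact ht_rchk_46
  · exact ht_rchk_47
  · exact ht_rchk_48

theorem ht_circ_ok : circChk (fullW he_rws he_prels) ht_circT 0 ht_ccert = true := by decide +kernel
theorem ht_hc_ok : allR (fun c => hcChk ht_rsw ht_hc1T ht_hc2T c) 6 3 0 = true := by decide +kernel
theorem ht_h0 : RData.aord (ht_rd.ent 0 1) = 0 := by decide +kernel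

end Cfsg.Agent.H10.HeT
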