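import Cfsg.Agent.H10.HeT.HT.RTab0
import Cfsg.Agent.H10.HeT.HT.RTab1

set_option autoImplicit false
set_option linter.all false

namespace Cfsg.Agent.H10.HeT

open Cfsg.Agent.H35 Cfsg.Spor

noncomputable def ht_rrowT : ℕ → ℕ := (nd 24960 (nd 12416 (nd 6144 (nd 3072 (nd 1536 (nd 768 (nd 384 (nd 128 ht_rrowT_c0 (nd 256 ht_rrowT_c1 ht_rrowT_c2)) (nd 512 ht_rrowT_c3 (nd 640 ht_rrowT_c4 ht_rrowT_c5))) (nd 1152 (nd 896 ht_rrowT_c6 (nd 1024 ht_rrowT_c7 ht_rrowT_c8)) (nd 1280 ht_rrowT_c9 (nd 1408 ht_rrowT_c10 ht_rrowT_c11)))) (nd 2304 (nd 1920 (nd 1664 ht_rrowT_c12 (nd 1792 ht_rrowT_c13 ht_rrowT_c14)) (nd 2048 ht_rrowT_c15 (nd 2176 ht_rrowT_c16 ht_rrowT_c17))) (nd 2688 (nd 2432 ht_rrowT_c18 (nd 2560 ht_rrowT_c19 ht_rrowT_c20)) (nd 2816 ht_rrowT_c21 (nd 2944 ht_rrowT_c22 ht_rrowT_c23))))) (nd 4608 (nd 3840 (nd 3456 (nd 3200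 ht_rrowT_c24 (nd 3328 ht_rrowT_c25 ht_rrowT_c26)) (nd 3584 ht_rrowT_c27 (nd 3712 ht_rrowT_c28 ht_rrowT_c29))) (nd 4224 (nd 3968 ht_rrowT_c30 (nd 4096 ht_rrowT_c31 ht_rrowT_c32)) (nd 4352 ht_rrowT_c33 (nd 4480 ht_rrowT_c34 ht_rrowT_c35)))) (nd 5376 (nd 4992 (nd 4736 ht_rrowT_c36 (nd 4864 ht_rrowT_c37 ht_rrowT_c38)) (nd 5120 ht_rrowT_c39 (nd 5248 ht_rrowT_c40 ht_rrowT_c41))) (nd 5760 (nd 5504 ht_rrowT_c42 (nd 5632 ht_rrowT_c43 ht_rrowT_c44)) (nd 5888 ht_rrowT_c45 (nd 6016 ht_rrowT_c46 ht_rrowT_c47)))))) (nd 9216 (nd 7680 (nd 6912 (nd 6528 (nd 6272 ht_rrowT_c48 (nd 6400 ht_rrowT_c49 ht_rrowT_c50)) (nd 6656 ht_rrowT_c51 (nd 6784 ht_rrowT_c52 ht_rrowT_c53))) (nd 7296 (nd 7040 ht_rrowT_c54 (nd 7168 ht_rrowT_c55 ht_rrowT_c56)) (nd 7424 ht_rrowT_c57 (nd 7552 ht_rrowT_c58 ht_rrowT_c59)))) (nd 8448 (nd 8064 (nd 7808 ht_rrowT_c60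 (nd 7936 ht_rrowT_c61 ht_rrowT_c62)) (nd 8192 ht_rrowT_c63 (nd 8320 ht_rrowT_c64 ht_rrowT_c65))) (nd 8832 (nd 8576 ht_rrowT_c66 (nd 8704 ht_rrowT_c67 ht_rrowT_c68)) (nd 8960 ht_rrowT_c69 (nd 9088 ht_rrowT_c70 ht_rrowT_c71))))) (nd 10752 (nd 9984 (nd 9600 (nd 9344 ht_rrowT_c72 (nd 9472 ht_rrowT_c73 ht_rrowT_c74)) (nd 9728 ht_rrowT_c75 (nd 9856 ht_rrowT_c76 ht_rrowT_c77))) (nd 10368 (nd 10112 ht_rrowT_c78 (nd 10240 ht_rrowT_c79 ht_rrowT_c80)) (nd 10496 ht_rrowT_c81 (nd 10624 ht_rrowT_c82 ht_rrowT_c83)))) (nd 11520 (nd 11136 (nd 10880 ht_rrowT_c84 (nd 11008 ht_rrowT_c85 ht_rrowT_c86)) (nd 11264 ht_rrowT_c87 (nd 11392 ht_rrowT_c88 ht_rrowT_c89))) (nd 11904 (nd 11648 ht_rrowT_c90 (nd 11776 ht_rrowT_c91 ht_rrowT_c92)) (nd 12160 (nd 12032 ht_rrowT_c93 ht_rrowT_c94) (nd 12288 ht_rrowT_c95 ht_rrowT_c96))))))) (nd 18688 (nd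 15488 (nd 13952 (nd 13184 (nd 12800 (nd 12544 ht_rrowT_c97 (nd 12672 ht_rrowT_c98 ht_rrowT_c99)) (nd 12928 ht_rrowT_c100 (nd 13056 ht_rrowT_c101 ht_rrowT_c102))) (nd 13568 (nd 13312 ht_rrowT_c103 (nd 13440 ht_rrowT_c104 ht_rrowT_c105)) (nd 13696 ht_rrowT_c106 (nd 13824 ht_rrowT_c107 ht_rrowT_c108)))) (nd 14720 (nd 14336 (nd 14080 ht_rrowT_c109 (nd 14208 ht_rrowT_c110 ht_rrowT_c111)) (nd 14464 ht_rrowT_c112 (nd 14592 ht_rrowT_c113 ht_rrowT_c114))) (nd 15104 (nd 14848 ht_rrowT_c115 (nd 14976 ht_rrowT_c116 ht_rrowT_c117)) (nd 15232 ht_rrowT_c118 (nd 15360 ht_rrowT_c119 ht_rrowT_c120))))) (nd 17024 (nd 16256 (nd 15872 (nd 15616 ht_rrowT_c121 (nd 15744 ht_rrowT_c122 ht_rrowT_c123)) (nd 16000 ht_rrowT_c124 (nd 16128 ht_rrowT_c125 ht_rrowT_c126))) (nd 16640 (nd 16384 ht_rrowT_c127 (nd 16512 ht_rrowT_c128 ht_rrowT_c129))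 (nd 16768 ht_rrowT_c130 (nd 16896 ht_rrowT_c131 ht_rrowT_c132)))) (nd 17792 (nd 17408 (nd 17152 ht_rrowT_c133 (nd 17280 ht_rrowT_c134 ht_rrowT_c135)) (nd 17536 ht_rrowT_c136 (nd 17664 ht_rrowT_c137 ht_rrowT_c138))) (nd 18176 (nd 17920 ht_rrowT_c139 (nd 18048 ht_rrowT_c140 ht_rrowT_c141)) (nd 18432 (nd 18304 ht_rrowT_c142 ht_rrowT_c143) (nd 18560 ht_rrowT_c144 ht_rrowT_c145)))))) (nd 21760 (nd 20224 (nd 19456 (nd 19072 (nd 18816 ht_rrowT_c146 (nd 18944 ht_rrowT_c147 ht_rrowT_c148)) (nd 19200 ht_rrowT_c149 (nd 19328 ht_rrowT_c150 ht_rrowT_c151))) (nd 19840 (nd 19584 ht_rrowT_c152 (nd 19712 ht_rrowT_c153 ht_rrowT_c154)) (nd 19968 ht_rrowT_c155 (nd 20096 ht_rrowT_c156 ht_rrowT_c157)))) (nd 20992 (nd 20608 (nd 20352 ht_rrowT_c158 (nd 20480 ht_rrowT_c159 ht_rrowT_c160)) (nd 20736 ht_rrowT_c161 (nd 20864 ht_rrowT_c162 ht_rrowT_c163)))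 (nd 21376 (nd 21120 ht_rrowT_c164 (nd 21248 ht_rrowT_c165 ht_rrowT_c166)) (nd 21504 ht_rrowT_c167 (nd 21632 ht_rrowT_c168 ht_rrowT_c169))))) (nd 23296 (nd 22528 (nd 22144 (nd 21888 ht_rrowT_c170 (nd 22016 ht_rrowT_c171 ht_rrowT_c172)) (nd 22272 ht_rrowT_c173 (nd 22400 ht_rrowT_c174 ht_rrowT_c175))) (nd 22912 (nd 22656 ht_rrowT_c176 (nd 22784 ht_rrowT_c177 ht_rrowT_c178)) (nd 23040 ht_rrowT_c179 (nd 23168 ht_rrowT_c180 ht_rrowT_c181)))) (nd 24064 (nd 23680 (nd 23424 ht_rrowT_c182 (nd 23552 ht_rrowT_c183 ht_rrowT_c184)) (nd 23808 ht_rrowT_c185 (nd 23936 ht_rrowT_c186 ht_rrowT_c187))) (nd 24448 (nd 24192 ht_rrowT_c188 (nd 24320 ht_rrowT_c189 ht_rrowT_c190)) (nd 24704 (nd 24576 ht_rrowT_c191 ht_rrowT_c192) (nd 24832 ht_rrowT_c193 ht_rrowT_c194)))))))) (nd 37504 (nd 31232 (nd 28032 (nd 26496 (nd 25728 (nd 25344 (nd 25088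 ht_rrowT_c195 (nd 25216 ht_rrowT_c196 ht_rrowT_c197)) (nd 25472 ht_rrowT_c198 (nd 25600 ht_rrowT_c199 ht_rrowT_c200))) (nd 26112 (nd 25856 ht_rrowT_c201 (nd 25984 ht_rrowT_c202 ht_rrowT_c203)) (nd 26240 ht_rrowT_c204 (nd 26368 ht_rrowT_c205 ht_rrowT_c206)))) (nd 27264 (nd 26880 (nd 26624 ht_rrowT_c207 (nd 26752 ht_rrowT_c208 ht_rrowT_c209)) (nd 27008 ht_rrowT_c210 (nd 27136 ht_rrowT_c211 ht_rrowT_c212))) (nd 27648 (nd 27392 ht_rrowT_c213 (nd 27520 ht_rrowT_c214 ht_rrowT_c215)) (nd 27776 ht_rrowT_c216 (nd 27904 ht_rrowT_c217 ht_rrowT_c218))))) (nd 29568 (nd 28800 (nd 28416 (nd 28160 ht_rrowT_c219 (nd 28288 ht_rrowT_c220 ht_rrowT_c221)) (nd 28544 ht_rrowT_c222 (nd 28672 ht_rrowT_c223 ht_rrowT_c224))) (nd 29184 (nd 28928 ht_rrowT_c225 (nd 29056 ht_rrowT_c226 ht_rrowT_c227)) (nd 29312 ht_rrowT_c228 (nd 29440 ht_rrowT_c229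 ht_rrowT_c230)))) (nd 30336 (nd 29952 (nd 29696 ht_rrowT_c231 (nd 29824 ht_rrowT_c232 ht_rrowT_c233)) (nd 30080 ht_rrowT_c234 (nd 30208 ht_rrowT_c235 ht_rrowT_c236))) (nd 30720 (nd 30464 ht_rrowT_c237 (nd 30592 ht_rrowT_c238 ht_rrowT_c239)) (nd 30976 (nd 30848 ht_rrowT_c240 ht_rrowT_c241) (nd 31104 ht_rrowT_c242 ht_rrowT_c243)))))) (nd 34304 (nd 32768 (nd 32000 (nd 31616 (nd 31360 ht_rrowT_c244 (nd 31488 ht_rrowT_c245 ht_rrowT_c246)) (nd 31744 ht_rrowT_c247 (nd 31872 ht_rrowT_c248 ht_rrowT_c249))) (nd 32384 (nd 32128 ht_rrowT_c250 (nd 32256 ht_rrowT_c251 ht_rrowT_c252)) (nd 32512 ht_rrowT_c253 (nd 32640 ht_rrowT_c254 ht_rrowT_c255)))) (nd 33536 (nd 33152 (nd 32896 ht_rrowT_c256 (nd 33024 ht_rrowT_c257 ht_rrowT_c258)) (nd 33280 ht_rrowT_c259 (nd 33408 ht_rrowT_c260 ht_rrowT_c261))) (nd 33920 (nd 33664 ht_rrowT_c262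 (nd 33792 ht_rrowT_c263 ht_rrowT_c264)) (nd 34048 ht_rrowT_c265 (nd 34176 ht_rrowT_c266 ht_rrowT_c267))))) (nd 35840 (nd 35072 (nd 34688 (nd 34432 ht_rrowT_c268 (nd 34560 ht_rrowT_c269 ht_rrowT_c270)) (nd 34816 ht_rrowT_c271 (nd 34944 ht_rrowT_c272 ht_rrowT_c273))) (nd 35456 (nd 35200 ht_rrowT_c274 (nd 35328 ht_rrowT_c275 ht_rrowT_c276)) (nd 35584 ht_rrowT_c277 (nd 35712 ht_rrowT_c278 ht_rrowT_c279)))) (nd 36608 (nd 36224 (nd 35968 ht_rrowT_c280 (nd 36096 ht_rrowT_c281 ht_rrowT_c282)) (nd 36352 ht_rrowT_c283 (nd 36480 ht_rrowT_c284 ht_rrowT_c285))) (nd 36992 (nd 36736 ht_rrowT_c286 (nd 36864 ht_rrowT_c287 ht_rrowT_c288)) (nd 37248 (nd 37120 ht_rrowT_c289 ht_rrowT_c290) (nd 37376 ht_rrowT_c291 ht_rrowT_c292))))))) (nd 43776 (nd 40576 (nd 39040 (nd 38272 (nd 37888 (nd 37632 ht_rrowT_c293 (nd 37760 ht_rrowT_c294 ht_rrowT_c295))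 (nd 38016 ht_rrowT_c296 (nd 38144 ht_rrowT_c297 ht_rrowT_c298))) (nd 38656 (nd 38400 ht_rrowT_c299 (nd 38528 ht_rrowT_c300 ht_rrowT_c301)) (nd 38784 ht_rrowT_c302 (nd 38912 ht_rrowT_c303 ht_rrowT_c304)))) (nd 39808 (nd 39424 (nd 39168 ht_rrowT_c305 (nd 39296 ht_rrowT_c306 ht_rrowT_c307)) (nd 39552 ht_rrowT_c308 (nd 39680 ht_rrowT_c309 ht_rrowT_c310))) (nd 40192 (nd 39936 ht_rrowT_c311 (nd 40064 ht_rrowT_c312 ht_rrowT_c313)) (nd 40320 ht_rrowT_c314 (nd 40448 ht_rrowT_c315 ht_rrowT_c316))))) (nd 42112 (nd 41344 (nd 40960 (nd 40704 ht_rrowT_c317 (nd 40832 ht_rrowT_c318 ht_rrowT_c319)) (nd 41088 ht_rrowT_c320 (nd 41216 ht_rrowT_c321 ht_rrowT_c322))) (nd 41728 (nd 41472 ht_rrowT_c323 (nd 41600 ht_rrowT_c324 ht_rrowT_c325)) (nd 41856 ht_rrowT_c326 (nd 41984 ht_rrowT_c327 ht_rrowT_c328)))) (nd 42880 (nd 42496 (nd 42240 ht_rrowT_c329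 (nd 42368 ht_rrowT_c330 ht_rrowT_c331)) (nd 42624 ht_rrowT_c332 (nd 42752 ht_rrowT_c333 ht_rrowT_c334))) (nd 43264 (nd 43008 ht_rrowT_c335 (nd 43136 ht_rrowT_c336 ht_rrowT_c337)) (nd 43520 (nd 43392 ht_rrowT_c338 ht_rrowT_c339) (nd 43648 ht_rrowT_c340 ht_rrowT_c341)))))) (nd 46848 (nd 45312 (nd 44544 (nd 44160 (nd 43904 ht_rrowT_c342 (nd 44032 ht_rrowT_c343 ht_rrowT_c344)) (nd 44288 ht_rrowT_c345 (nd 44416 ht_rrowT_c346 ht_rrowT_c347))) (nd 44928 (nd 44672 ht_rrowT_c348 (nd 44800 ht_rrowT_c349 ht_rrowT_c350)) (nd 45056 ht_rrowT_c351 (nd 45184 ht_rrowT_c352 ht_rrowT_c353)))) (nd 46080 (nd 45696 (nd 45440 ht_rrowT_c354 (nd 45568 ht_rrowT_c355 ht_rrowT_c356)) (nd 45824 ht_rrowT_c357 (nd 45952 ht_rrowT_c358 ht_rrowT_c359))) (nd 46464 (nd 46208 ht_rrowT_c360 (nd 46336 ht_rrowT_c361 ht_rrowT_c362)) (nd 46592 ht_rrowT_c363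 (nd 46720 ht_rrowT_c364 ht_rrowT_c365))))) (nd 48384 (nd 47616 (nd 47232 (nd 46976 ht_rrowT_c366 (nd 47104 ht_rrowT_c367 ht_rrowT_c368)) (nd 47360 ht_rrowT_c369 (nd 47488 ht_rrowT_c370 ht_rrowT_c371))) (nd 48000 (nd 47744 ht_rrowT_c372 (nd 47872 ht_rrowT_c373 ht_rrowT_c374)) (nd 48128 ht_rrowT_c375 (nd 48256 ht_rrowT_c376 ht_rrowT_c377)))) (nd 49152 (nd 48768 (nd 48512 ht_rrowT_c378 (nd 48640 ht_rrowT_c379 ht_rrowT_c380)) (nd 48896 ht_rrowT_c381 (nd 49024 ht_rrowT_c382 ht_rrowT_c383))) (nd 49536 (nd 49280 ht_rrowT_c384 (nd 49408 ht_rrowT_c385 ht_rrowT_c386)) (nd 49792 (nd 49664 ht_rrowT_c387 ht_rrowT_c388) (nd 49920 ht_rrowT_c389 ht_rrowT_c390)))))))))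
noncomputable def ht_circT_c0 : ℕ → List He.Gen := (nd 32 (nd 16 (nd 8 (nd 4 (nd 2 (nd 1 (lf [.d, .b, .d, .b]) (lf [.e, .b, .e, .b])) (nd 3 (lf [.f, .b, .f, .b]) (lf [.g, .b, .g, .b]))) (nd 6 (nd 5 (lf [.d, .a, .d, .a]) (lf [.e, .a, .e, .a])) (nd 7 (lf [.f, .a, .f, .a]) (lf [.g, .a, .g, .a])))) (nd 12 (nd 10 (nd 9 (lf [.b, .c, .b, .c, .b, .c]) (lf [.e, .c, .e, .c])) (nd 11 (lf [.f, .c, .f, .c]) (lf [.g, .c, .g, .c]))) (nd 14 (nd 13 (lf [.a, .b, .a, .b, .a, .b, .a, .b]) (lf [.a, .c, .a, .c])) (nd 15 (lf [.c, .b, .a, .c, .b, .a, .e, .c, .b, .a]) (lf [.b, .c, .a, .b, .c, .a, .b, .c, .e, .a]))))) (nd 24 (nd 20 (nd 18 (nd 17 (lf [.b, .d, .b, .d]) (lf [.a, .d, .a, .d])) (nd 19 (lf [.b, .e, .b, .e]) (lf [.d, .e, .d, .e, .d, .e]))) (nd 22 (nd 21 (lf [.b, .f, .b, .f]) (lf [.d, .f, .d, .f, .d, .f])) (nd 23 (lf [.b, .g, .b,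 .g]) (lf [.d, .g, .d, .g, .d, .g])))) (nd 28 (nd 26 (nd 25 (lf [.a, .e, .a, .e]) (lf [.a, .f, .a, .f])) (nd 27 (lf [.a, .g, .a, .g]) (lf [.c, .b, .c, .b, .c, .b]))) (nd 30 (nd 29 (lf [.c, .e, .c, .e]) (lf [.c, .f, .c, .f])) (nd 31 (lf [.c, .g, .c, .g]) (lf [.e, .f, .e, .f])))))) (nd 48 (nd 40 (nd 36 (nd 34 (nd 33 (lf [.e, .g, .e, .g]) (lf [.f, .g, .f, .e, .g])) (nd 35 (lf [.f, .g, .e, .f, .g]) (lf [.g, .f, .g, .f, .g, .f, .g, .f]))) (nd 38 (nd 37 (lf [.c, .a, .d, .c, .d, .c, .d, .c, .d, .c, .d]) (lf [.c, .d, .c, .d, .c, .d, .c, .d, .c, .d, .a])) (nd 39 (lf [.c, .a, .c, .a]) (lf [.b, .a, .c, .b, .a, .c, .b, .a, .e, .c])))) (nd 44 (nd 42 (nd 41 (lf [.b, .c, .e, .a, .b, .c, .a, .b, .c, .a]) (lf [.e, .c, .b, .a, .c, .b, .a, .c, .b, .a])) (nd 43 (lf [.e, .a, .b, .c, .a, .b, .c, .a, .b, .c]) (lf [.d, .f, .g, .c, .d, .f,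 .g, .c, .d, .f, .g, .c, .d, .f, .g, .c]))) (nd 46 (nd 45 (lf [.d, .c, .g, .f, .d, .c, .g, .f, .d, .c, .g, .f, .d, .c, .g, .f]) (lf [.e, .d, .e, .d, .e, .d])) (nd 47 (lf [.f, .d, .f, .d, .f, .d]) (lf [.g, .d, .g, .d, .g, .d]))))) (nd 56 (nd 52 (nd 50 (nd 49 (lf [.b, .a, .b, .a, .b, .a, .b, .a]) (lf [.f, .e, .g, .f, .g])) (nd 51 (lf [.g, .f, .g, .f, .e]) (lf [.g, .e, .g, .e]))) (nd 54 (nd 53 (lf [.f, .e, .f, .e]) (lf [.c, .b, .a, .c, .b, .a, .c, .b, .a, .e])) (nd 55 (lf [.c, .e, .a, .b, .c, .a, .b, .c, .a, .b]) (lf [.g, .e, .f, .g, .f])))) (nd 60 (nd 58 (nd 57 (lf [.e, .f, .g, .f, .g]) (lf [.e, .g, .f, .g, .f])) (nd 59 (lf [.a, .e, .c, .b, .a, .c, .b, .a, .c, .b]) (lf [.f, .g, .f, .g, .e]))) (nd 62 (nd 61 (lf [.c, .d, .c, .d, .c, .d, .c, .d, .c, .a, .d]) (lf [.c, .d, .a, .c, .d, .c, .d, .c, .d, .c, .d])) (nd 63 (lf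 [.c, .d, .c, .d, .c, .d, .c, .d, .c, .d, .c, .d, .c, .d, .c, .d, .c, .d, .c, .d]) (lf [.a, .b, .c, .a, .b, .c, .a, .b, .c, .e])))))))
noncomputable def ht_circT_c1 : ℕ → List He.Gen := (nd 83 (nd 73 (nd 68 (nd 66 (nd 65 (lf [.f, .g, .f, .g, .f, .g, .f, .g]) (lf [.g, .f, .d, .c, .g, .f, .d, .c, .g, .f, .d, .c, .g, .f, .d, .c])) (nd 67 (lf [.g, .c, .d, .f, .g, .c, .d, .f, .g, .c, .d, .f, .g, .c, .d, .f]) (lf [.c, .d, .f, .g, .c, .d, .f, .g, .c, .d, .f, .g, .c, .d, .f, .g]))) (nd 70 (nd 69 (lf [.c, .g, .f, .d, .c, .g, .f, .d, .c, .g, .f, .d, .c, .g, .f, .d]) (lf [.d, .c, .d, .c, .a, .d, .c, .d, .c, .d, .c])) (nd 71 (lf [.d, .c, .d, .c, .d, .c, .d, .a, .c, .d, .c]) (nd 72 (lf [.d, .c, .d, .c, .d, .c, .d, .c, .d, .c, .a]) (lf [.d, .a, .c, .d, .c, .d, .c, .d, .c, .d, .c]))))) (nd 78 (nd 75 (nd 74 (lf [.g, .f, .e, .g, .f])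 (lf [.g, .f, .g, .e, .f])) (nd 76 (lf [.d, .c, .d, .c, .d, .c, .d, .c, .a, .d, .c]) (nd 77 (lf [.d, .c, .d, .c, .d, .c, .d, .c, .d, .c, .d, .c, .d, .c, .d, .c, .d, .c, .d, .c]) (lf [.f, .d, .c, .g, .f, .d, .c, .g, .f, .d, .c, .g, .f, .d, .c, .g])))) (nd 80 (nd 79 (lf [.f, .g, .c, .d, .f, .g, .c, .d, .f, .g, .c, .d, .f, .g, .c, .d]) (lf [.d, .c, .d, .a, .c, .d, .c, .d, .c, .d, .c])) (nd 81 (lf [.d, .c, .d, .c, .d, .c, .a, .d, .c, .d, .c]) (nd 82 (lf [.d, .c, .d, .c, .d, .a, .c, .d, .c, .d, .c]) (lf [.a, .b, .c, .a, .b, .c, .e, .a, .b, .c])))))) (nd 92 (nd 87 (nd 85 (nd 84 (lf [.a, .c, .b, .a, .e, .c, .b, .a, .c, .b]) (lf [.c, .d, .c, .d, .c, .a, .d, .c, .d, .c, .d])) (nd 86 (lf [.c, .d, .c, .d, .c, .d, .a, .c, .d, .c, .d]) (lf [.a, .c, .d, .c, .d, .c, .d, .c, .d, .c, .d]))) (nd 89 (nd 88 (lf [.a, .d, .c, .d, .c, .d,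 .c, .d, .c, .d, .c]) (lf [.c, .d, .c, .a, .d, .c, .d, .c, .d, .c, .d])) (nd 90 (lf [.c, .d, .c, .d, .c, .d, .c, .d, .a, .c, .d]) (nd 91 (lf [.d, .c, .a, .d, .c, .d, .c, .d, .c, .d, .c]) (lf [.d, .c, .d, .c, .d, .c, .d, .c, .d, .a, .c]))))) (nd 97 (nd 94 (nd 93 (lf [.c, .d, .c, .d, .c, .d, .c, .a, .d, .c, .d]) (lf [.c, .d, .c, .d, .a, .c, .d, .c, .d, .c, .d])) (nd 95 (lf [.b, .a, .c, .b, .a, .e, .c, .b, .a, .c]) (nd 96 (lf [.c, .a, .b, .c, .e, .a, .b, .c, .a, .b]) (lf [.b, .a, .e, .c, .b, .a, .c, .b, .a, .c])))) (nd 99 (nd 98 (lf [.a, .b, .c, .e, .a, .b, .c, .a, .b, .c]) (lf [.a, .c, .b, .a, .c, .b, .a, .e, .c, .b])) (nd 100 (lf [.c, .a, .b, .c, .a, .b, .c, .e, .a, .b]) (nd 101 (lf [.c, .b, .a, .e, .c, .b, .a, .c, .b, .a]) (lf [.b, .c, .a, .b, .c, .e, .a, .b, .c, .a])))))))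
noncomputable def ht_circT : ℕ → List He.Gen := (nd 64 ht_circT_c0 ht_circT_c1)
def ht_ccert : List (ℕ × ℕ × Bool) := [(10, 1, false), (11, 1, false), (12, 1, false), (13, 1, false), (3, 1, false), (4, 1, false), (5, 1, false), (6, 1, false), (9, 0, false), (18, 1, false), (19, 1, false), (20, 1, false), (1, 0, false), (2, 0, false), (50, 4, false), (50, 1, true), (10, 0, false), (3, 0, false), (11, 0, false), (25, 0, false), (12, 0, false), (26, 0, false), (13, 0, false), (27, 0, false), (4, 0, false), (5, 0, false), (6, 0, false), (9, 1, false), (18, 0, false), (19, 0, false), (20, 0, false), (33, 0, false), (34, 0, false), (49, 2, false), (49, 2, true), (41, 1, false), (51, 10, false), (51, 0, true), (2, 1, false), (50, 2, false), (50, 7, true), (50, 0, false), (50, 9, true), (52, 1, false), (52, 2, true), (25,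 1, false), (26, 1, false), (27, 1, false), (1, 1, false), (49, 4, false), (49, 1, false), (34, 1, false), (33, 1, false), (50, 1, false), (50, 8, true), (49, 3, true), (49, 4, true), (49, 0, false), (50, 9, false), (49, 0, true), (51, 2, false), (51, 8, true), (17, 0, false), (50, 0, true), (41, 0, false), (52, 0, true), (52, 3, false), (52, 0, false), (52, 3, true), (51, 7, false), (51, 3, true), (51, 1, false), (51, 9, true), (49, 3, false), (49, 1, true), (51, 3, false), (17, 1, false), (52, 1, true), (52, 2, false), (51, 7, true), (51, 5, false), (51, 5, true), (50, 3, true), (50, 6, false), (51, 6, false), (51, 4, true), (51, 10, true), (51, 0, false), (51, 8, false), (51, 2, true), (51, 9, false), (51, 1, true), (51, 4, false), (51, 6, true), (50, 5, false), (50, 5, true), (50, 8, false), (50, 6, true), (50,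 3, false), (50, 2, true), (50, 7, false), (50, 4, true)]
noncomputable def ht_hc1T_c0 : ℕ → List He.Gen := (nd 3 (nd 1 (lf [.a]) (nd 2 (lf [.c]) (lf [.d]))) (nd 4 (lf [.e]) (nd 5 (lf [.f]) (lf [.g]))))
noncomputable def ht_hc1T : ℕ → List He.Gen := ht_hc1T_c0
noncomputable def ht_hc2T_c0 : ℕ → List He.Gen := (nd 3 (nd 1 (lf []) (nd 2 (lf []) (lf []))) (nd 4 (lf []) (nd 5 (lf []) (lf []))))
noncomputable def ht_hc2T : ℕ → List He.Gen := ht_hc2T_c0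

noncomputable def ht_rd : RData He.Gen := ⟨wrapRow 49980 ht_rrowT, 49980, 49980, he_gi, he_gof, he_gens, circTab 102 ht_circT, circTab 6 ht_hc1T, circTab 6 ht_hc2T, 1⟩
noncomputable def ht_rf (p : ℕ) : Bool := ht_rd.chk p
def ht_rsw : List (List He.Gen) := [[.a], [.c], [.d], [.e], [.f], [.g]]

end Cfsg.Agent.H10.HeT
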